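import Mathlib.RingTheory.Flat.Basic
import Mathlib.RingTheory.TensorProduct.Maps

/-!
# A one-cocycle for a flat algebra has enough invariant elements
-/

set_option autoImplicit false

universe u

namespace Groth.Agent.FppfPic

open TensorProduct

variable {R R' : Type u} [CommRing R] [CommRing R'] [Algebra R R']

/-- `m ↦ m ⊗ 1 - u (1 ⊗ m)`. -/
noncomputable def twist (u : R' ⊗[R] R') : R' →ₗ[R] R' ⊗[R] R' :=
  Algebra.TensorProduct.includeLeft.toLinearMap -
    LinearMap.mulLeft R u ∘ₗ Algebra.TensorProduct.includeRight.toLinearMap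

lemma twist_apply (u : R' ⊗[R] R') (m : R') :
    twist u m = m ⊗ₜ 1 - u * 1 ⊗ₜ m := rfl

/-- The first coordinate and the third. -/
noncomputable abbrev iota13 : R' ⊗[R] R' →ₐ[R] (R' ⊗[R] R') ⊗[R] R' :=
  Algebra.TensorProduct.map Algebra.TensorProduct.includeLeft (AlgHom.id R R')

/-- The second coordinate and the third. -/
noncomputable abbrev iota23 : R' ⊗[R] R' →ₐ[R] (R' ⊗[R] R') ⊗[R] R' :=
  Algebra.TensorProduct.map Algebra.TensorProduct.includeRight (AlgHom.id R R')

lemma rTensor_twist (u z : R' ⊗[R] R') :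
    (twist u).rTensor R' z = iota13 z - (u ⊗ₜ 1) * iota23 z := by
  induction z with
  | zero => simp
  | tmul m r =>
    rw [LinearMap.rTensor_tmul, twist_apply, sub_tmul, Algebra.TensorProduct.map_tmul,
      Algebra.TensorProduct.map_tmul, Algebra.TensorProduct.tmul_mul_tmul, AlgHom.id_apply, one_mul]
    rfl
  | add a b ha hb => rw [map_add, map_add, map_add, ha, hb]; ring

/-- The invariant elements of a cocycle generate the unit ideal. -/
theorem span_ker_twist [Module.Flat R R'] (u : R' ⊗[R] R')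
    (hμ : Algebra.TensorProduct.lmul' R u = 1)
    (hcoc : iota13 u = (u ⊗ₜ 1) * iota23 u) :
    Ideal.span {m : R' | m ⊗ₜ 1 = u * 1 ⊗ₜ m} = ⊤ := by
  have hex : Function.Exact ((LinearMap.ker (twist u)).subtype.rTensor R') ((twist u).rTensor R') :=
    Module.Flat.rTensor_exact _ (LinearMap.exact_subtype_ker_map _)
  obtain ⟨z, hz⟩ := (hex u).1 (by rw [rTensor_twist, hcoc, sub_self])
  suffices h : Algebra.TensorProduct.lmul' R ((LinearMap.ker (twist u)).subtype.rTensor R' z) ∈
      Ideal.span {m : R' | m ⊗ₜ 1 = u * 1 ⊗ₜ m} by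
    rw [hz, hμ] at h
    exact (Ideal.eq_top_iff_one _).2 h
  clear hz hμ
  induction z with
  | zero => simp
  | tmul m r =>
    rw [LinearMap.rTensor_tmul, Algebra.TensorProduct.lmul'_apply_tmul]
    exact Ideal.mul_mem_right _ _ (Ideal.subset_span (sub_eq_zero.1 ((twist_apply u m.1).symm.trans m.2)))
  | add a b ha hb => rw [map_add, map_add]; exact Ideal.add_mem _ ha hb

end Groth.Agent.FppfPic
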