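import Groth.Agent.QCoh.Basic
import Mathlib.AlgebraicGeometry.Pullbacks

/-!
# Functions on the base changes of a scheme over an affine base
-/

set_option autoImplicit false
set_option backward.isDefEq.respectTransparency false

universe u

open CategoryTheory Limits AlgebraicGeometry Opposite TopologicalSpace TensorProduct

noncomputable section

namespace Groth.Agent.FppfPic

open Groth.Agent.QCoh

variable {P Q Y : Scheme.{u}}

/-- Pullback of functions from an open. -/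
def al (g : P ⟶ Y) {W : Y.Opens} {V : P.Opens} (h : V ≤ g ⁻¹ᵁ W) : Γ(Y, W) →+* Γ(P, V) :=
  (g.appLE W V h).hom

lemma al_apply (g : P ⟶ Y) {W : Y.Opens} {V : P.Opens} (h : V ≤ g ⁻¹ᵁ W) (x : Γ(Y, W)) :
    al g h x = g.appLE W V h x := rfl

lemma al_rres (g : P ⟶ Y) {W W' : Y.Opens} {V : P.Opens} (k : W' ≤ W) (h : V ≤ g ⁻¹ᵁ W') (x : Γ(Y, W)) :
    al g h (rres k x) = al g (h.trans (g.preimage_mono k)) x :=
  congrArg (fun m : Γ(Y, W) ⟶ Γ(P, V) => m x) (Scheme.Hom.map_appLE g h (homOfLE k).op)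

lemma rres_al (g : P ⟶ Y) {W : Y.Opens} {V V' : P.Opens} (h : V ≤ g ⁻¹ᵁ W) (k : V' ≤ V) (x : Γ(Y, W)) :
    rres k (al g h x) = al g (k.trans h) x :=
  congrArg (fun m : Γ(Y, W) ⟶ Γ(P, V') => m x) (Scheme.Hom.appLE_map g h (homOfLE k).op)

lemma al_al (k : Q ⟶ P) (g : P ⟶ Y) {W : Y.Opens} {V : P.Opens} {U : Q.Opens} (h : V ≤ g ⁻¹ᵁ W)
    (h' : U ≤ k ⁻¹ᵁ V) (x : Γ(Y, W)) :
    al k h' (al g h x) =
      al (k ≫ g) (h'.trans (k.preimage_mono h) : U ≤ (k ≫ g) ⁻¹ᵁ W) x :=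
  congrArg (fun m : Γ(Y, W) ⟶ Γ(Q, U) => m x) (Scheme.Hom.appLE_comp_appLE k g W V U h h')

lemma al_congr {g g' : P ⟶ Y} (e : g = g') {W : Y.Opens} {V : P.Opens} (h : V ≤ g ⁻¹ᵁ W)
    (h' : V ≤ g' ⁻¹ᵁ W) (x : Γ(Y, W)) : al g h x = al g' h' x := by
  subst e; rfl

lemma app_eq_al (g : P ⟶ Y) (W : Y.Opens) (x : Γ(Y, W)) :
    g.app W x = al g (le_refl (g ⁻¹ᵁ W)) x :=
  congrArg (fun m : Γ(Y, W) ⟶ Γ(P, g ⁻¹ᵁ W) => m x) (Scheme.Hom.app_eq_appLE g)

variable {R : CommRingCat.{u}} {X : Scheme.{u}} (f : X ⟶ Spec R)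

/-- The base change to `A`. -/
abbrev XA (A : Type u) [CommRing A] [Algebra R A] : Scheme.{u} :=
  pullback f (Spec.map (CommRingCat.ofHom (algebraMap R A)))

variable {A B : Type u} [CommRing A] [Algebra R A] [CommRing B] [Algebra R B]

/-- The projection to `X`. -/
abbrev prX (A : Type u) [CommRing A] [Algebra R A] : XA f A ⟶ X := pullback.fst _ _

/-- Functoriality in the algebra. -/
def Xm (a : A →ₐ[R] B) : XA f B ⟶ XA f A :=
  pullback.lift (prX f B) (pullback.snd _ _ ≫ Spec.map (CommRingCat.ofHom a.toRingHom)) (by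
    rw [pullback.condition, Category.assoc, ← Spec.map_comp, ← CommRingCat.ofHom_comp]
    congr 4
    exact a.comp_algebraMap.symm)

@[reassoc (attr := simp)]
lemma Xm_fst (a : A →ₐ[R] B) : Xm f a ≫ pullback.fst _ _ = prX f B := pullback.lift_fst _ _ _

@[reassoc (attr := simp)]
lemma Xm_snd (a : A →ₐ[R] B) :
    Xm f a ≫ pullback.snd _ _ = pullback.snd _ _ ≫ Spec.map (CommRingCat.ofHom a.toRingHom) :=
  pullback.lift_snd _ _ _

lemma Xm_id : Xm f (AlgHom.id R A) = 𝟙 (XA f A) := by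
  refine pullback.hom_ext ?_ ?_
  · rw [Xm_fst, Category.id_comp]
  · rw [Xm_snd, Category.id_comp]
    exact (congrArg _ (Spec.map_id (CommRingCat.of A))).trans (Category.comp_id _)

lemma Xm_comp {C : Type u} [CommRing C] [Algebra R C] (a : A →ₐ[R] B) (b : B →ₐ[R] C) :
    Xm f b ≫ Xm f a = Xm f (b.comp a) := by
  refine pullback.hom_ext ?_ ?_
  · rw [Category.assoc, Xm_fst, Xm_fst, Xm_fst]
  · rw [Category.assoc, Xm_snd, Xm_snd_assoc, Xm_snd, ← Spec.map_comp, ← CommRingCat.ofHom_comp]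
    rfl

/-- Constants on the base change. -/
def ψ (A : Type u) [CommRing A] [Algebra R A] : A →+* Γ(XA f A, ⊤) :=
  ((Scheme.ΓSpecIso (CommRingCat.of A)).inv ≫
    (pullback.snd f (Spec.map (CommRingCat.ofHom (algebraMap R A)))).appTop).hom

lemma appTop_ψ (a : A →ₐ[R] B) (x : A) : (Xm f a).appTop (ψ f A x) = ψ f B (a x) := by
  have h := congrArg (fun m => Scheme.Hom.appTop m) (Xm_snd f a)
  simp only [Scheme.Hom.comp_appTop] at h
  have h2 : ((Scheme.ΓSpecIso (CommRingCat.of A)).inv ≫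
      (pullback.snd f (Spec.map (CommRingCat.ofHom (algebraMap R A)))).appTop) ≫ (Xm f a).appTop =
      CommRingCat.ofHom a.toRingHom ≫ ((Scheme.ΓSpecIso (CommRingCat.of B)).inv ≫
      (pullback.snd f (Spec.map (CommRingCat.ofHom (algebraMap R B)))).appTop) := by
    rw [Category.assoc, h, ← Category.assoc, ← Category.assoc, Scheme.ΓSpecIso_inv_naturality]
  exact congrArg (fun m : CommRingCat.of A ⟶ Γ(XA f B, ⊤) => m x) h2

lemma al_ψ (a : A →ₐ[R] B) {V : (XA f B).Opens} (h : V ≤ Xm f a ⁻¹ᵁ ⊤) (x : A) :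
    al (Xm f a) h (ψ f A x) = rres le_top (ψ f B (a x)) := by
  exact ((rres_al (Xm f a) (le_refl (Xm f a ⁻¹ᵁ ⊤)) (show V ≤ Xm f a ⁻¹ᵁ ⊤ from h) (ψ f A x)).symm.trans
    (congrArg (rres (le_top : V ≤ ⊤))
      ((app_eq_al (Xm f a) ⊤ (ψ f A x)).symm.trans (appTop_ψ f a x))))

/-- A pair of lifts of a morphism to `X` factors through the base change to `A ⊗ A`. -/
theorem exists_univ {g₁ g₂ : P ⟶ XA f A} (e : g₁ ≫ prX f A = g₂ ≫ prX f A) :
    ∃ τ : P ⟶ XA f (A ⊗[R] A), τ ≫ Xm f Algebra.TensorProduct.includeLeft = g₁ ∧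
      τ ≫ Xm f Algebra.TensorProduct.includeRight = g₂ := by
  have hq : (g₁ ≫ pullback.snd _ _) ≫ Spec.map (CommRingCat.ofHom (algebraMap R A)) =
      (g₂ ≫ pullback.snd _ _) ≫ Spec.map (CommRingCat.ofHom (algebraMap R A)) := by
    rw [Category.assoc, Category.assoc, ← pullback.condition, reassoc_of% e]
  let q : P ⟶ Spec (CommRingCat.of (A ⊗[R] A)) := pullback.lift _ _ hq ≫ (pullbackSpecIso R A A).hom
  have hq1 : q ≫ Spec.map (CommRingCat.ofHom (Algebra.TensorProduct.includeLeft :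
      A →ₐ[R] A ⊗[R] A).toRingHom) = g₁ ≫ pullback.snd _ _ := by
    rw [Category.assoc]
    exact (congrArg (pullback.lift _ _ hq ≫ ·) (pullbackSpecIso_hom_fst R A A)).trans
      (pullback.lift_fst _ _ _)
  have hq2 : q ≫ Spec.map (CommRingCat.ofHom (Algebra.TensorProduct.includeRight :
      A →ₐ[R] A ⊗[R] A).toRingHom) = g₂ ≫ pullback.snd _ _ := by
    rw [Category.assoc]
    exact (congrArg (pullback.lift _ _ hq ≫ ·) (pullbackSpecIso_hom_snd R A A)).trans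
      (pullback.lift_snd _ _ _)
  have hw : (g₁ ≫ prX f A) ≫ f = q ≫ Spec.map (CommRingCat.ofHom (algebraMap R (A ⊗[R] A))) := by
    rw [Category.assoc, pullback.condition, ← Category.assoc, ← hq1, Category.assoc, ← Spec.map_comp,
      ← CommRingCat.ofHom_comp]
    congr 3
  refine ⟨pullback.lift (g₁ ≫ prX f A) q hw, ?_, ?_⟩
  · refine pullback.hom_ext ?_ ?_
    · rw [Category.assoc, Xm_fst, pullback.lift_fst]
    · rw [Category.assoc, Xm_snd, pullback.lift_snd_assoc, hq1]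
  · refine pullback.hom_ext ?_ ?_
    · rw [Category.assoc, Xm_fst, pullback.lift_fst, e]
    · rw [Category.assoc, Xm_snd, pullback.lift_snd_assoc, hq2]

end Groth.Agent.FppfPic

end
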