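import Groth.Agent.FppfPic.Local
import Groth.Agent.ProjBundleLib.PushId
import Groth.Agent.InvOfTensor
import Groth.Agent.LineCoc.Basic
import Groth.Agent.PicLaw.Basic
import Groth.Agent.QCoh.Pullback

/-!
# A module trivial fppf-locally on the base comes from the base
-/

set_option autoImplicit false
set_option linter.style.haveILetI false
set_option backward.isDefEq.respectTransparency false

universe u

open CategoryTheory Limits AlgebraicGeometry Opposite TopologicalSpace TensorProduct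

noncomputable section

namespace Groth.Agent.FppfPic

open Groth.Agent.QCoh Groth.Agent.Props.GenLocus Groth.Agent.Props.GenPull

theorem exists_gen_nhd_affine {R : CommRingCat.{u}} {X : Scheme.{u}} (f : X ⟶ Spec R)
    (H : ∀ (B : Type u) [CommRing B] [Algebra R B], Function.Bijective (ψ f B))
    (L : X.Modules) (hL : PicF.IsInvertible L) (A : Type u) [CommRing A] [Algebra R A] [Module.Flat R A]
    [Surjective (Spec.map (CommRingCat.ofHom (algebraMap R A)))]
    (hopen : IsOpenMap (Spec.map (CommRingCat.ofHom (algebraMap R A))))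
    (φ : (Scheme.Modules.pullback (prX f A)).obj L ≅ Coh.structureModule (XA f A)) (p : Spec R) :
    ∃ (U' : (Spec R).Opens) (σ : Γ(L, f ⁻¹ᵁ U')), p ∈ U' ∧ IsGen L (f ⁻¹ᵁ U') σ := by
  classical
  let ι := {q : Σ W : X.Opens, Γ(L, W) // IsGen L q.1 q.2}
  let W : ι → X.Opens := fun i => i.1.1
  let g : ∀ i : ι, Γ(L, W i) := fun i => i.1.2
  have hg : ∀ i, IsGen L (W i) (g i) := fun i => i.2
  let M := (Scheme.Modules.pullback (prX f A)).obj L
  let e : Γ(M, ⊤) := φ.inv.app ⊤ (one' ⊤)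
  have he : IsGen M ⊤ e := InvOfTensor.isGen_of_iso φ.inv (Props.GenTensor.isGen_one ⊤)
  choose c hc _ using fun i => he.exists_eq (le_top : prX f A ⁻¹ᵁ W i ≤ ⊤) (pb (prX f A) (g i))
  have hcu : ∀ i, IsUnit (c i) := fun i => by
    obtain ⟨b, hb, -⟩ := (isGen_pb (prX f A) (hg i)).exists_eq le_rfl
      (res M (le_top : prX f A ⁻¹ᵁ W i ≤ ⊤) e)
    rw [res_self] at hb
    refine IsUnit.of_mul_eq_one b (he.injective le_top ?_)
    rw [one_smul, mul_comm, mul_smul, ← hc i]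
    exact hb.symm
  have htr : ∀ i j (a : Γ(X, W i ⊓ W j)),
      res L inf_le_right (g j) = a • res L inf_le_left (g i) →
      rres ((prX f A).preimage_mono (inf_le_right : W i ⊓ W j ≤ W j)) (c j) =
        (prX f A).app (W i ⊓ W j) a *
          rres ((prX f A).preimage_mono (inf_le_left : W i ⊓ W j ≤ W i)) (c i) := by
    intro i j a ha
    have h1 := congrArg (LFFrame.unitSec (prX f A) L (W i ⊓ W j)) ha
    rw [LFFrame.unitSec_smul, LFFrame.unitSec_res, LFFrame.unitSec_res] at h1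
    change res M _ (pb (prX f A) (g j)) = _ • res M _ (pb (prX f A) (g i)) at h1
    rw [hc i, hc j, res_smul, res_smul, res_res, res_res, smul_smul] at h1
    exact he.injective le_top h1
  have hcov : ∀ x, ∃ i, x ∈ W i := fun x =>
    let ⟨U, s, hx, hs⟩ := exists_isGen hL x
    ⟨⟨⟨U, s⟩, hs⟩, hx⟩
  let C : Frames f (A := A) W :=
    { cover := hcov
      c := c
      isUnit := hcu
      trans := fun i j => by
        obtain ⟨a, ha, -⟩ := (hg i).exists_eq (inf_le_left : W i ⊓ W j ≤ W i) (res L inf_le_right (g j))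
        exact ⟨a, htr i j a ha⟩ }
  obtain ⟨q, hq⟩ := (Spec.map (CommRingCat.ofHom (algebraMap R A))).surjective p
  obtain ⟨m, hmq, hm⟩ := exists_invariant C H q.asIdeal q.2.ne_top
  obtain ⟨σ, hσ⟩ := exists_section C H g hg htr m hm
  let D : (Spec (CommRingCat.of A)).Opens := PrimeSpectrum.basicOpen m
  let U' : (Spec R).Opens := ⟨Spec.map (CommRingCat.ofHom (algebraMap R A)) '' (D : Set _), hopen _ D.2⟩
  have hle : f ⁻¹ᵁ U' ≤ AmpleLib.locus σ := by
    rintro x ⟨v, hv, hvx⟩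
    obtain ⟨z, hzx, hzv⟩ := Scheme.Pullback.exists_preimage_pullback x v hvx.symm
    exact hzx ▸ hσ z (mem_basicOpen_ψ f m (hzv.symm ▸ hv))
  refine ⟨U', res L (le_top : f ⁻¹ᵁ U' ≤ ⊤) σ, ⟨q, hmq, hq⟩, ?_⟩
  have := (AmpleLib.isGen_locus σ).restrict hle
  rwa [res_res] at this

theorem exists_gen_nhd {X S : Scheme.{u}} (f : X ⟶ S)
    (ha : ∀ (T : Over S) (U : T.left.Opens), IsIso ((PicF.XTproj f T).app U))
    (L : X.Modules) (hL : PicF.IsInvertible L)
    {S' : Scheme.{u}} (h : S' ⟶ S) [Flat h] [LocallyOfFinitePresentation h] [Surjective h]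
    (φ : (Scheme.Modules.pullback (pullback.fst f h)).obj L ≅ Coh.structureModule (pullback f h)) (s : S) :
    ∃ (U' : S.Opens) (σ : Γ(L, f ⁻¹ᵁ U')), s ∈ U' ∧ IsGen L (f ⁻¹ᵁ U') σ := by
  obtain ⟨_, ⟨U₀, hU₀, rfl⟩, hsU₀, -⟩ :=
    S.isBasis_affineOpens.exists_subset_of_mem_open (Set.mem_univ s) isOpen_univ
  obtain ⟨s', hs'⟩ := h.surjective s
  obtain ⟨_, ⟨V₀, hV₀, rfl⟩, hsV₀, hV₀le⟩ :=
    S'.isBasis_affineOpens.exists_subset_of_mem_open
      (show s' ∈ (h ⁻¹ᵁ U₀ : S'.Opens) from show h s' ∈ U₀ from hs' ▸ hsU₀) (h ⁻¹ᵁ U₀).isOpen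
  obtain ⟨b, hb, hsb⟩ := hU₀.exists_basicOpen_le (V := ⟨h '' V₀, h.isOpenMap _ V₀.2⟩ ⊓ U₀)
    ⟨s, ⟨s', hsV₀, hs'⟩, hsU₀⟩ hsU₀
  have hU : IsAffineOpen (S.basicOpen b) := hU₀.basicOpen b
  let V : S'.Opens := S'.basicOpen (h.appLE U₀ V₀ hV₀le b)
  have hV : IsAffineOpen V := hV₀.basicOpen _
  have hVeq : V = V₀ ⊓ h ⁻¹ᵁ S.basicOpen b := Scheme.basicOpen_appLE h V₀ U₀ hV₀le b
  have hVU : V ≤ h ⁻¹ᵁ S.basicOpen b := hVeq.le.trans inf_le_right
  let U := S.basicOpen b
  let j := hU.fromSpec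
  let φA := h.appLE U V hVU
  algebraize [φA.hom]
  have : Module.Flat Γ(S, U) Γ(S', V) := HasRingHomProperty.appLE @Flat h ‹_› ⟨U, hU⟩ ⟨V, hV⟩ hVU
  have hsq : Spec.map (CommRingCat.ofHom (algebraMap Γ(S, U) Γ(S', V))) ≫ j = hV.fromSpec ≫ h :=
    IsAffineOpen.SpecMap_appLE_fromSpec h hU hV hVU
  have hpt : ∀ z, j (Spec.map (CommRingCat.ofHom (algebraMap Γ(S, U) Γ(S', V))) z) = h (hV.fromSpec z) :=
    fun z => congrArg (fun m : Spec (CommRingCat.of Γ(S', V)) ⟶ S => m z) hsq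
  have hjinj : Function.Injective j := j.isOpenEmbedding.injective
  have : Surjective (Spec.map (CommRingCat.ofHom (algebraMap Γ(S, U) Γ(S', V)))) := ⟨fun p => by
    have hp : j p ∈ U := hU.range_fromSpec.le ⟨p, rfl⟩
    obtain ⟨v, hv, hvp⟩ := (hb hp).1
    have hvV : v ∈ V := hVeq.ge ⟨hv, show h v ∈ U from hvp ▸ hp⟩
    obtain ⟨z, hz⟩ := hV.range_fromSpec.ge hvV
    exact ⟨z, hjinj (by rw [hpt, hz, hvp])⟩⟩
  have hopen : IsOpenMap (Spec.map (CommRingCat.ofHom (algebraMap Γ(S, U) Γ(S', V)))) := by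
    intro O hO
    have e : Spec.map (CommRingCat.ofHom (algebraMap Γ(S, U) Γ(S', V))) '' O =
        j ⁻¹' (h '' (hV.fromSpec '' O)) := by
      ext p
      constructor
      · rintro ⟨z, hz, rfl⟩
        exact ⟨_, ⟨z, hz, rfl⟩, (hpt z).symm⟩
      · rintro ⟨_, ⟨z, hz, rfl⟩, hzp⟩
        exact ⟨z, hz, hjinj ((hpt z).trans hzp)⟩
    rw [e]
    exact (h.isOpenMap _ (hV.fromSpec.isOpenEmbedding.isOpenMap _ hO)).preimage j.continuous
  let f' : pullback f j ⟶ Spec Γ(S, U) := pullback.snd f j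
  have H : ∀ (B : Type u) [CommRing B] [Algebra Γ(S, U) B], Function.Bijective (ψ f' B) := by
    intro B _ _
    let t := Spec.map (CommRingCat.ofHom (algebraMap Γ(S, U) B))
    have := ha (Over.mk (t ≫ j)) ⊤
    have h1 : Function.Bijective (pullback.snd f (t ≫ j)).appTop :=
      (ConcreteCategory.isIso_iff_bijective _).1 this
    have h2 : (pullback.snd f' t).appTop =
        (pullback.snd f (t ≫ j)).appTop ≫ (pullbackLeftPullbackSndIso f j t).hom.appTop := by
      rw [← Scheme.Hom.comp_appTop, pullbackLeftPullbackSndIso_hom_snd]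
    have h3 : Function.Bijective (pullback.snd f' t).appTop := by
      rw [h2]
      have h4 := (ConcreteCategory.bijective_of_isIso
        (pullbackLeftPullbackSndIso f j t).hom.appTop).comp h1
      exact h4
    exact h3.comp (ConcreteCategory.bijective_of_isIso (Scheme.ΓSpecIso (CommRingCat.of B)).inv)
  let l : XA f' Γ(S', V) ⟶ pullback f h :=
    pullback.lift (prX f' _ ≫ pullback.fst f j) (pullback.snd _ _ ≫ hV.fromSpec) (by
      rw [Category.assoc, Category.assoc, pullback.condition, ← hsq, pullback.condition_assoc])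
  have hl : l ≫ pullback.fst f h = prX f' _ ≫ pullback.fst f j := pullback.lift_fst _ _ _
  let L' := (Scheme.Modules.pullback (pullback.fst f j)).obj L
  let φ' : (Scheme.Modules.pullback (prX f' Γ(S', V))).obj L' ≅ Coh.structureModule _ :=
    (Scheme.Modules.pullbackComp (prX f' _) (pullback.fst f j)).app L ≪≫
      (Scheme.Modules.pullbackCongr hl.symm).app L ≪≫
      ((Scheme.Modules.pullbackComp l (pullback.fst f h)).app L).symm ≪≫
      (Scheme.Modules.pullback l).mapIso φ ≪≫ QCoh.pullbackUnitIso l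
  obtain ⟨p, hp⟩ := hU.range_fromSpec.ge hsb
  obtain ⟨U₁, σ, hpU₁, hσ⟩ := exists_gen_nhd_affine f' H L' (PicLoc.isInvertible_pullback _ hL)
    Γ(S', V) hopen φ' p
  let κ := pullback.fst f j
  let w : L' ≅ L.restrict κ := ((Scheme.Modules.restrictFunctorIsoPullback κ).app L).symm
  have hσ' := (ProjBundleLib.isGen_restrict_iff _).1 (InvOfTensor.isGen_of_iso w.hom hσ)
  have hle : f ⁻¹ᵁ (j ''ᵁ U₁) ≤ κ ''ᵁ (f' ⁻¹ᵁ U₁) := by
    rintro x ⟨z, hz, hzx⟩
    obtain ⟨w', hw1, hw2⟩ := Scheme.Pullback.exists_preimage_pullback x z hzx.symm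
    exact ⟨w', show f' w' ∈ U₁ from hw2.symm ▸ hz, hw1⟩
  exact ⟨j ''ᵁ U₁, _, ⟨p, hpU₁, hp⟩, hσ'.restrict hle⟩

theorem exists_descent {X S : Scheme.{u}} (f : X ⟶ S)
    (ha : ∀ (T : Over S) (U : T.left.Opens), IsIso ((PicF.XTproj f T).app U))
    (L : X.Modules) (hL : PicF.IsInvertible L)
    {S' : Scheme.{u}} (h : S' ⟶ S) [Flat h] [LocallyOfFinitePresentation h] [Surjective h]
    (φ : (Scheme.Modules.pullback (pullback.fst f h)).obj L ≅ Coh.structureModule (pullback f h)) :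
    ∃ N : S.Modules, PicF.IsInvertible N ∧ Nonempty (L ≅ (Scheme.Modules.pullback f).obj N) := by
  have hf : ∀ U : S.Opens, Function.Bijective (f.app U) := fun U => by
    have h1 := (ConcreteCategory.isIso_iff_bijective _).1 (ha (Over.mk (𝟙 S)) U)
    have e : f = inv (pullback.fst f (𝟙 S)) ≫ pullback.snd f (𝟙 S) := by
      rw [IsIso.eq_inv_comp, pullback.condition, Category.comp_id]
    have h2 : Function.Bijective ((inv (pullback.fst f (𝟙 S)) ≫ pullback.snd f (𝟙 S)).app U) := by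
      rw [Scheme.Hom.comp_app]
      exact (ConcreteCategory.bijective_of_isIso
        ((inv (pullback.fst f (𝟙 S))).app (pullback.snd f (𝟙 S) ⁻¹ᵁ U))).comp h1
    have key : ∀ f₁ : X ⟶ S, f₁ = f → Function.Bijective (f₁.app U) → Function.Bijective (f.app U) := by
      rintro f₁ rfl h'; exact h'
    exact key _ e.symm h2
  choose W σ hsW hσ using exists_gen_nhd f ha L hL h φ
  have hex : ∀ s t, ∃ a : Γ(S, W s ⊓ W t),
      res L (f.preimage_mono inf_le_right : f ⁻¹ᵁ (W s ⊓ W t) ≤ f ⁻¹ᵁ W t) (σ t) =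
        f.app (W s ⊓ W t) a • res L (f.preimage_mono inf_le_left : f ⁻¹ᵁ (W s ⊓ W t) ≤ f ⁻¹ᵁ W s) (σ s) := by
    intro s t
    obtain ⟨b, hb, -⟩ := (hσ s).exists_eq (f.preimage_mono inf_le_left : f ⁻¹ᵁ (W s ⊓ W t) ≤ f ⁻¹ᵁ W s)
      (res L (f.preimage_mono inf_le_right) (σ t))
    obtain ⟨a, rfl⟩ := (hf _).2 b
    exact ⟨a, hb⟩
  choose a ha' using hex
  have ha2 : ∀ s t (V : S.Opens) (k : V ≤ W s ⊓ W t),
      res L (f.preimage_mono (k.trans inf_le_right)) (σ t) =
        f.app V (rres k (a s t)) • res L (f.preimage_mono (k.trans inf_le_left)) (σ s) := by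
    intro s t V k
    have h1 := congrArg (res L (f.preimage_mono k)) (ha' s t)
    rw [res_res, res_smul, res_res, ← app_rres] at h1
    exact h1
  let C : LineCoc.Cocycle S :=
    { ι := S
      W := W
      a := a
      cover := fun s _ => Opens.mem_iSup.2 ⟨s, hsW s⟩
      self := fun s => (hf _).1 ((hσ s).injective (f.preimage_mono inf_le_left) (by
        rw [map_one, one_smul]; exact (ha' s s).symm))
      coc := fun i j k V h₁ h₂ h₃ => (hf _).1 ((hσ i).injective (f.preimage_mono (h₁.trans inf_le_left)) (by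
        rw [map_mul, mul_comm, mul_smul, ← ha2 i j V h₁, ← ha2 j k V h₂]
        exact ha2 i k V h₃)) }
  refine ⟨LineCoc.mod C, LineCoc.isInvertible C, PicLaw.nonempty_iso_of_transition (fun s => f ⁻¹ᵁ W s)
    (fun x => ⟨f x, hsW (f x)⟩) σ hσ (fun s => pb f (LineCoc.gen C s))
    (fun s => isGen_pb f (LineCoc.isGen_gen C s)) fun s t V hs ht => ?_⟩
  have hV : V ≤ f ⁻¹ᵁ (W s ⊓ W t) := fun x hx => ⟨hs hx, ht hx⟩
  refine ⟨rres hV (f.app (W s ⊓ W t) (a s t)), ?_, ?_⟩
  · have h1 := congrArg (res L hV) (ha' s t)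
    rw [res_smul, res_res, res_res] at h1
    exact h1
  · have h1 := congrArg (LFFrame.unitSec f (LineCoc.mod C) (W s ⊓ W t)) (LineCoc.res_gen_eq C s t)
    rw [LFFrame.unitSec_smul, LFFrame.unitSec_res, LFFrame.unitSec_res] at h1
    have h2 := congrArg (res ((Scheme.Modules.pullback f).obj (LineCoc.mod C)) hV) h1
    rw [res_smul, res_res, res_res] at h2
    exact h2

end Groth.Agent.FppfPic

end
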