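import Groth.Agent.FppfPic.Amitsur
import Groth.Agent.FppfPic.Base
import Groth.Agent.Props.GenPull
import Groth.Agent.AmpleLib.Locus
import Groth.Agent.GITLib.DescentGeom
import Groth.Agent.PicCl.Basic
import Mathlib.AlgebraicGeometry.Morphisms.Flat

/-!
# A module trivial after a faithfully flat base change is trivial near each point of the base
-/

set_option autoImplicit false
set_option backward.isDefEq.respectTransparency false

universe u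

open CategoryTheory Limits AlgebraicGeometry Opposite TopologicalSpace TensorProduct

noncomputable section

namespace Groth.Agent.FppfPic

open Groth.Agent.QCoh Groth.Agent.Props.GenLocus Groth.Agent.Props.GenPull

variable {R : CommRingCat.{u}} {X : Scheme.{u}} (f : X ⟶ Spec R) {A : Type u} [CommRing A] [Algebra R A]

/-- Unit functions on the preimages of a cover, with transition functions from the cover. -/
structure Frames {ι : Type u} (W : ι → X.Opens) where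
  cover : ∀ x, ∃ i, x ∈ W i
  c : ∀ i, Γ(XA f A, prX f A ⁻¹ᵁ W i)
  isUnit : ∀ i, IsUnit (c i)
  trans : ∀ i j, ∃ a : Γ(X, W i ⊓ W j),
    rres ((prX f A).preimage_mono (inf_le_right : W i ⊓ W j ≤ W j)) (c j) =
      (prX f A).app (W i ⊓ W j) a * rres ((prX f A).preimage_mono (inf_le_left : W i ⊓ W j ≤ W i)) (c i)

variable {f} {ι : Type u} {W : ι → X.Opens} (C : Frames f (A := A) W) {P Q : Scheme.{u}}

/-- `d` is the ratio of the two pullbacks of the frames. -/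
def IsRatio (g₁ g₂ : P ⟶ XA f A) (d : Γ(P, ⊤)) : Prop :=
  ∀ (i : ι) (V : P.Opens) (h₁ : V ≤ g₁ ⁻¹ᵁ (prX f A ⁻¹ᵁ W i)) (h₂ : V ≤ g₂ ⁻¹ᵁ (prX f A ⁻¹ᵁ W i)),
    al g₁ h₁ (C.c i) = rres le_top d * al g₂ h₂ (C.c i)

variable {C}

theorem IsRatio.trans' {g₁ g₂ g₃ : P ⟶ XA f A} (e : g₁ ≫ prX f A = g₂ ≫ prX f A) {d d' : Γ(P, ⊤)}
    (h : IsRatio C g₁ g₂ d) (h' : IsRatio C g₂ g₃ d') : IsRatio C g₁ g₃ (d * d') := fun i V h₁ h₃ => by
  have h₂ : V ≤ g₂ ⁻¹ᵁ (prX f A ⁻¹ᵁ W i) := h₁.trans (by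
    rw [← Scheme.Hom.comp_preimage, ← Scheme.Hom.comp_preimage, e])
  rw [h i V h₁ h₂, h' i V h₂ h₃, map_mul, mul_assoc]

theorem IsRatio.eq {g₁ g₂ : P ⟶ XA f A} (e : g₁ ≫ prX f A = g₂ ≫ prX f A) {d d' : Γ(P, ⊤)}
    (h : IsRatio C g₁ g₂ d) (h' : IsRatio C g₁ g₂ d') : d = d' := by
  let V : ι → P.Opens := fun i => g₁ ⁻¹ᵁ (prX f A ⁻¹ᵁ W i)
  refine P.sheaf.eq_of_locally_eq' V ⊤ (fun i => homOfLE le_top) (fun p _ => ?_) d d' fun i => ?_
  · obtain ⟨i, hi⟩ := C.cover (prX f A (g₁ p))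
    exact Opens.mem_iSup.2 ⟨i, hi⟩
  · have h₂ : V i ≤ g₂ ⁻¹ᵁ (prX f A ⁻¹ᵁ W i) := le_of_eq (by
      simp only [V]; rw [← Scheme.Hom.comp_preimage, ← Scheme.Hom.comp_preimage, e])
    exact ((C.isUnit i).map (al g₂ h₂)).mul_right_cancel ((h i (V i) le_rfl h₂).symm.trans (h' i (V i) le_rfl h₂))

theorem IsRatio.comp {g₁ g₂ : P ⟶ XA f A} {d : Γ(P, ⊤)} (h : IsRatio C g₁ g₂ d) (k : Q ⟶ P) :
    IsRatio C (k ≫ g₁) (k ≫ g₂) (al k (le_top : (⊤ : Q.Opens) ≤ k ⁻¹ᵁ ⊤) d) := fun i V h₁ h₂ => by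
  let V' : P.Opens := g₁ ⁻¹ᵁ (prX f A ⁻¹ᵁ W i) ⊓ g₂ ⁻¹ᵁ (prX f A ⁻¹ᵁ W i)
  have hV : V ≤ k ⁻¹ᵁ V' := fun q hq => ⟨h₁ hq, h₂ hq⟩
  have := congrArg (al k hV) (h i V' inf_le_left inf_le_right)
  rw [map_mul, al_al, al_al, al_rres] at this
  rw [rres_al]
  exact this

theorem isRatio_self (g : P ⟶ XA f A) : IsRatio C g g 1 := fun i V h₁ _ => by
  rw [map_one, one_mul]

theorem IsRatio.congr {g₁ g₂ g₁' g₂' : P ⟶ XA f A} (e₁ : g₁ = g₁') (e₂ : g₂ = g₂') {d : Γ(P, ⊤)}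
    (h : IsRatio C g₁ g₂ d) : IsRatio C g₁' g₂' d := by subst e₁; subst e₂; exact h

variable (C)

theorem exists_ratio (g₁ g₂ : P ⟶ XA f A) (e : g₁ ≫ prX f A = g₂ ≫ prX f A) :
    ∃ d, IsRatio C g₁ g₂ d := by
  let V : ι → P.Opens := fun i => g₁ ⁻¹ᵁ (prX f A ⁻¹ᵁ W i)
  have he : ∀ i, g₁ ⁻¹ᵁ (prX f A ⁻¹ᵁ W i) = g₂ ⁻¹ᵁ (prX f A ⁻¹ᵁ W i) := fun i => by
    rw [← Scheme.Hom.comp_preimage, ← Scheme.Hom.comp_preimage, e]
  choose t ht using fun i => ((C.isUnit i).map (al g₂ (he i).le : _ →+* Γ(P, V i))).exists_left_inv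
  let r : ∀ i, Γ(P, V i) := fun i => al g₁ le_rfl (C.c i) * t i
  have hr : ∀ i (U : P.Opens) (hU : U ≤ V i),
      al g₁ (show U ≤ g₁ ⁻¹ᵁ (prX f A ⁻¹ᵁ W i) from hU) (C.c i) =
      rres hU (r i) * al g₂ (hU.trans (he i).le) (C.c i) := fun i U hU => by
    have h1 : al g₁ le_rfl (C.c i) = r i * al g₂ (he i).le (C.c i) := by
      rw [mul_assoc, ht i, mul_one]
    have h2 := congrArg (rres hU) h1
    rw [map_mul, rres_al, rres_al] at h2
    exact h2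
  have key : ∀ i j (U : P.Opens) (hi : U ≤ V i) (hj : U ≤ V j),
      al g₁ (show U ≤ g₁ ⁻¹ᵁ (prX f A ⁻¹ᵁ W j) from hj) (C.c j) =
      rres hi (r i) * al g₂ (hj.trans (he j).le) (C.c j) := fun i j U hi hj => by
    obtain ⟨a, ha⟩ := C.trans i j
    have hij : U ≤ g₁ ⁻¹ᵁ (prX f A ⁻¹ᵁ (W i ⊓ W j)) := fun p hp => ⟨hi hp, hj hp⟩
    have hij' : U ≤ g₂ ⁻¹ᵁ (prX f A ⁻¹ᵁ (W i ⊓ W j)) := fun p hp => ⟨(he i).le (hi hp), (he j).le (hj hp)⟩
    have h1 := congrArg (al g₁ hij) ha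
    have h2 := congrArg (al g₂ hij') ha
    rw [map_mul, al_rres, al_rres, app_eq_al, al_al] at h1 h2
    rw [al_congr e _ (show U ≤ (g₂ ≫ prX f A) ⁻¹ᵁ (W i ⊓ W j) from hij')] at h1
    rw [h1, h2, hr i U hi]
    ring
  obtain ⟨d, hd, -⟩ := P.sheaf.existsUnique_gluing' V ⊤ (fun i => homOfLE le_top) (fun p _ => by
      obtain ⟨i, hi⟩ := C.cover (prX f A (g₁ p))
      exact Opens.mem_iSup.2 ⟨i, hi⟩) r (fun i j => ((C.isUnit j).map
        (al g₂ ((inf_le_right : V i ⊓ V j ≤ V j).trans (he j).le))).mul_right_cancel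
      ((key i j _ inf_le_left inf_le_right).symm.trans (hr j _ inf_le_right)))
  refine ⟨d, fun i U h₁ h₂ => ?_⟩
  have hdi : rres (le_top : V i ≤ ⊤) d = r i := hd i
  rw [hr i U h₁, ← hdi, rres_rres]

section descent

variable (H : ∀ (B : Type u) [CommRing B] [Algebra R B], Function.Bijective (ψ f B))
  [Module.Flat R A]

include H in
/-- Invariant constants exist away from every prime. -/
theorem exists_invariant (q : Ideal A) (hq : q ≠ ⊤) :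
    ∃ m : A, m ∉ q ∧ ∀ (P : Scheme.{u}) (g₁ g₂ : P ⟶ XA f A) (_ : g₁ ≫ prX f A = g₂ ≫ prX f A)
      (d : Γ(P, ⊤)), IsRatio C g₁ g₂ d → ∀ (V : P.Opens) (h₁ : V ≤ g₁ ⁻¹ᵁ ⊤) (h₂ : V ≤ g₂ ⁻¹ᵁ ⊤),
        al g₁ h₁ (ψ f A m) = rres le_top d * al g₂ h₂ (ψ f A m) := by
  let G₁ : XA f (A ⊗[R] A) ⟶ XA f A := Xm f Algebra.TensorProduct.includeLeft
  let G₂ : XA f (A ⊗[R] A) ⟶ XA f A := Xm f Algebra.TensorProduct.includeRight
  have e : G₁ ≫ prX f A = G₂ ≫ prX f A := by rw [Xm_fst, Xm_fst]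
  obtain ⟨d₀, hd₀⟩ := exists_ratio C G₁ G₂ e
  obtain ⟨u, rfl⟩ := (H (A ⊗[R] A)).2 d₀
  have push : ∀ (B : Type u) [CommRing B] [Algebra R B] (θ : A ⊗[R] A →ₐ[R] B) (a b : A →ₐ[R] B),
      θ.comp Algebra.TensorProduct.includeLeft = a → θ.comp Algebra.TensorProduct.includeRight = b →
      IsRatio C (Xm f a) (Xm f b) (ψ f B (θ u)) := by
    intro B _ _ θ a b ha hb
    have h := (hd₀.comp (Xm f θ)).congr ((Xm_comp f _ θ).trans (congrArg (Xm f) ha))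
      ((Xm_comp f _ θ).trans (congrArg (Xm f) hb))
    rw [al_ψ, rres_self] at h
    exact h
  have hμ : Algebra.TensorProduct.lmul' R u = 1 := by
    apply (H A).1
    rw [map_one]
    refine IsRatio.eq rfl ((push A (Algebra.TensorProduct.lmul' R) (AlgHom.id R A) (AlgHom.id R A) ?_ ?_))
      (isRatio_self _) <;> ext x <;> simp
  have hcoc : iota13 u = (u ⊗ₜ 1) * iota23 u := by
    let ι12 : A ⊗[R] A →ₐ[R] (A ⊗[R] A) ⊗[R] A := Algebra.TensorProduct.includeLeft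
    let a : A →ₐ[R] (A ⊗[R] A) ⊗[R] A := ι12.comp Algebra.TensorProduct.includeLeft
    let b : A →ₐ[R] (A ⊗[R] A) ⊗[R] A := ι12.comp Algebra.TensorProduct.includeRight
    let c : A →ₐ[R] (A ⊗[R] A) ⊗[R] A := Algebra.TensorProduct.includeRight
    have h13 := push _ iota13 a c (Algebra.TensorProduct.map_comp_includeLeft _ _)
      (by ext x; simp [c])
    have h12 := push _ ι12 a b rfl rfl
    have h23 := push _ iota23 b c (Algebra.TensorProduct.map_comp_includeLeft _ _)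
      (by ext x; simp [c])
    have h := IsRatio.eq (by rw [Xm_fst, Xm_fst]) h13 (h12.trans' (by rw [Xm_fst, Xm_fst]) h23)
    rw [← map_mul] at h
    exact (H _).1 h
  have hspan := span_ker_twist u hμ hcoc
  obtain ⟨m, hm, hmq⟩ : ∃ m, m ∈ {m : A | m ⊗ₜ[R] 1 = u * 1 ⊗ₜ m} ∧ m ∉ q := by
    by_contra hc
    push Not at hc
    exact hq (top_le_iff.1 (hspan.ge.trans (Ideal.span_le.2 hc)))
  refine ⟨m, hmq, fun P g₁ g₂ hg d hd V h₁ h₂ => ?_⟩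
  obtain ⟨τ, hτ₁, hτ₂⟩ := exists_univ f hg
  rw [IsRatio.eq hg hd ((hd₀.comp τ).congr hτ₁ hτ₂)]
  have hm' : ψ f (A ⊗[R] A) (m ⊗ₜ 1) = ψ f (A ⊗[R] A) u * ψ f (A ⊗[R] A) (1 ⊗ₜ m) := by
    rw [← map_mul]; exact congrArg _ hm
  have hτV : V ≤ τ ⁻¹ᵁ ⊤ := le_top
  rw [al_congr hτ₁.symm h₁ (show V ≤ (τ ≫ G₁) ⁻¹ᵁ ⊤ from le_top),
    al_congr hτ₂.symm h₂ (show V ≤ (τ ≫ G₂) ⁻¹ᵁ ⊤ from le_top),
    ← al_al τ G₁ (le_top : (⊤ : (XA f (A ⊗[R] A)).Opens) ≤ G₁ ⁻¹ᵁ ⊤) hτV,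
    ← al_al τ G₂ (le_top : (⊤ : (XA f (A ⊗[R] A)).Opens) ≤ G₂ ⁻¹ᵁ ⊤) hτV,
    al_ψ, al_ψ, rres_self, rres_self, rres_al, ← map_mul]
  exact congrArg (al τ hτV) hm'

variable [Surjective (Spec.map (CommRingCat.ofHom (algebraMap R A)))]

include H in
theorem exists_coeff (m : A)
    (hm : ∀ (P : Scheme.{u}) (g₁ g₂ : P ⟶ XA f A) (_ : g₁ ≫ prX f A = g₂ ≫ prX f A)
      (d : Γ(P, ⊤)), IsRatio C g₁ g₂ d → ∀ (V : P.Opens) (h₁ : V ≤ g₁ ⁻¹ᵁ ⊤) (h₂ : V ≤ g₂ ⁻¹ᵁ ⊤),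
        al g₁ h₁ (ψ f A m) = rres le_top d * al g₂ h₂ (ψ f A m)) (i : ι) :
    ∃ a : Γ(X, W i), (prX f A).app (W i) a * C.c i = rres le_top (ψ f A m) := by
  have : Flat (Spec.map (CommRingCat.ofHom (algebraMap R A))) :=
    Flat.SpecMap_iff.2 (RingHom.flat_algebraMap_iff.2 ‹_›)
  obtain ⟨t, ht⟩ := (C.isUnit i).exists_left_inv
  obtain ⟨-, hdesc⟩ := GITLib.app_descent (prX f A) (W i)
  obtain ⟨a, ha⟩ := hdesc (rres le_top (ψ f A m) * t) (fun {P} g₁ g₂ h₁ h₂ e => by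
    obtain ⟨d, hd⟩ := exists_ratio C g₁ g₂ e
    change al g₁ h₁ _ = al g₂ h₂ _
    have k1 := hd i ⊤ h₁ h₂
    have k2 := hm P g₁ g₂ e d hd ⊤ (h₁.trans (g₁.preimage_mono le_top)) (h₂.trans (g₂.preimage_mono le_top))
    have t1 := congrArg (al g₁ h₁) ht
    have t2 := congrArg (al g₂ h₂) ht
    rw [map_mul, map_one] at t1 t2
    rw [map_mul, map_mul, al_rres, al_rres]
    linear_combination (al g₁ h₁ t) * k2 - (al g₁ h₁ t) * (al g₂ _ (ψ f A m)) * (al g₂ h₂ t) * k1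
      + (al g₁ h₁ t) * (rres le_top d) * (-(al g₂ _ (ψ f A m))) * t2
      + (al g₂ _ (ψ f A m)) * (al g₂ h₂ t) * t1)
  exact ⟨a, by rw [ha, mul_assoc, ht, mul_one]⟩

variable {L : X.Modules} (g : ∀ i, Γ(L, W i)) (hg : ∀ i, IsGen L (W i) (g i))
  (htr : ∀ i j (a : Γ(X, W i ⊓ W j)),
    res L inf_le_right (g j) = a • res L inf_le_left (g i) →
    rres ((prX f A).preimage_mono (inf_le_right : W i ⊓ W j ≤ W j)) (C.c j) =
      (prX f A).app (W i ⊓ W j) a * rres ((prX f A).preimage_mono (inf_le_left : W i ⊓ W j ≤ W i)) (C.c i))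

include hg htr H in
/-- A section generating over the image of `D(m)`. -/
theorem exists_section (m : A)
    (hm : ∀ (P : Scheme.{u}) (g₁ g₂ : P ⟶ XA f A) (_ : g₁ ≫ prX f A = g₂ ≫ prX f A)
      (d : Γ(P, ⊤)), IsRatio C g₁ g₂ d → ∀ (V : P.Opens) (h₁ : V ≤ g₁ ⁻¹ᵁ ⊤) (h₂ : V ≤ g₂ ⁻¹ᵁ ⊤),
        al g₁ h₁ (ψ f A m) = rres le_top d * al g₂ h₂ (ψ f A m)) :
    ∃ σ : Γ(L, ⊤), ∀ z : XA f A, z ∈ (XA f A).basicOpen (ψ f A m) → prX f A z ∈ AmpleLib.locus σ := by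
  have : Flat (Spec.map (CommRingCat.ofHom (algebraMap R A))) :=
    Flat.SpecMap_iff.2 (RingHom.flat_algebraMap_iff.2 ‹_›)
  choose a ha using exists_coeff C H m hm
  have hc : TopCat.Presheaf.IsCompatible L.presheaf W (fun i => a i • g i) := fun i j => by
    show res L inf_le_left (a i • g i) = res L inf_le_right (a j • g j)
    rw [res_smul, res_smul]
    obtain ⟨b, hb, -⟩ := (hg i).exists_eq (inf_le_left : W i ⊓ W j ≤ W i) (res L inf_le_right (g j))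
    rw [hb, smul_smul]
    congr 1
    refine (GITLib.app_descent (prX f A) (W i ⊓ W j)).1 ?_
    refine ((C.isUnit i).map (rres ((prX f A).preimage_mono (inf_le_left : W i ⊓ W j ≤ W i))).hom).mul_right_cancel ?_
    rw [map_mul, app_rres, app_rres, mul_assoc]
    have h1 := congrArg (rres ((prX f A).preimage_mono (inf_le_left : W i ⊓ W j ≤ W i))) (ha i)
    have h2 := congrArg (rres ((prX f A).preimage_mono (inf_le_right : W i ⊓ W j ≤ W j))) (ha j)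
    rw [map_mul, rres_rres] at h1 h2
    rw [← htr i j b hb]
    exact h1.trans h2.symm
  obtain ⟨σ, hσ, -⟩ := TopCat.Sheaf.existsUnique_gluing' (⟨L.presheaf, L.isSheaf⟩ : TopCat.Sheaf Ab.{u} X)
    W ⊤ (fun i => homOfLE le_top) (fun x _ => Opens.mem_iSup.2 (C.cover x)) (fun i => a i • g i) hc
  refine ⟨σ, fun z hz => ?_⟩
  obtain ⟨i, hi⟩ := C.cover (prX f A z)
  have h1 : AmpleLib.locus σ ⊓ W i = X.basicOpen (a i) := AmpleLib.locus_inf le_top (hg i) σ (hσ i)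
  refine (h1.ge (show prX f A z ∈ X.basicOpen (a i) from ?_)).1
  have h2 : z ∈ (XA f A).basicOpen ((prX f A).app (W i) (a i) * C.c i) := by
    rw [ha i, Scheme.basicOpen_res]
    exact ⟨hi, hz⟩
  rw [Scheme.basicOpen_mul] at h2
  exact (Scheme.preimage_basicOpen (prX f A) (a i)).ge h2.1

end descent

variable (f) in
/-- The open set of the base over which the invariant constant is invertible lifts to `D(ψ m)`. -/
theorem mem_basicOpen_ψ (m : A) {z : XA f A}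
    (hz : pullback.snd f (Spec.map (CommRingCat.ofHom (algebraMap R A))) z ∈
      (PrimeSpectrum.basicOpen m : TopologicalSpace.Opens (PrimeSpectrum A))) :
    z ∈ (XA f A).basicOpen (ψ f A m) := by
  have h := Scheme.preimage_basicOpen (pullback.snd f (Spec.map (CommRingCat.ofHom (algebraMap R A))))
    (U := ⊤) ((Scheme.ΓSpecIso (CommRingCat.of A)).inv m)
  refine h.le ?_
  rw [basicOpen_eq_of_affine']
  show _ ∈ PrimeSpectrum.basicOpen ((Scheme.ΓSpecIso (CommRingCat.of A)).hom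
    ((Scheme.ΓSpecIso (CommRingCat.of A)).inv m))
  rwa [← ConcreteCategory.comp_apply, Iso.inv_hom_id]

end Groth.Agent.FppfPic

end
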